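import Cfsg.Agent.H805.K547.Red
import Cfsg.Agent.H612.K4.SzU3
import Cfsg.Agent.S0815

/-!
# S4547-QE6: field automorphisms of `PSU₃(q)` in the model `Mod q π`, the reduction of 2-automorphisms (helper805)

* `fld E : (F ≃+* F) →* MulAut M`, `fld_apply : fld E ρ (π g) = π (fldS E ρ g)`, `fld_emb`, `fld_tor`, `fld_wel`;
* `eq_one_of_isInn` : `IsInn (fld E ρ) → ρ = 1`;
* `exists_red` : `M = PSU 3 F q`, `q > 2` even, `TwoPow τ` : `∃ x g ρ, x * τ * x⁻¹ = conj g * fld E ρ`.
-/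

set_option autoImplicit false
set_option linter.unusedSectionVars false

open Cfsg

namespace Cfsg.Agent.H805.K547.PSU3

open Cfsg.Agent.H601.K4 Cfsg.Agent.H821.K547 Cfsg.Agent.LieRecognition.RankOneAbstract
open Cfsg.Agent.H705.PSU Cfsg.Agent.UThreeGen.MatGroup
open Cfsg.Agent.HKS.EndU (tor tmat tor_val tor_mem act tor_emb ci ci_val wel_tor exists_tor tor_mem_center sne tor_conj)

universe u

open Matrix

section indu

variable {S M : Type*} [Group S] [Group M] {π : S →* M}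

theorem indu_wd (hk : ∀ g, π g = 1 ↔ g ∈ Subgroup.center S) (α : MulAut S) {g h : S} (e : π g = π h) :
    π (α g) = π (α h) := by
  have h1 : π (g * h⁻¹) = 1 := by rw [map_mul, map_inv, e, mul_inv_cancel]
  have h2 := (hk _).1 h1
  have h3 : α (g * h⁻¹) ∈ Subgroup.center S := by
    rw [Subgroup.mem_center_iff] at h2 ⊢
    intro s
    have := h2 (α⁻¹ s)
    have h4 := congrArg α this
    rwa [map_mul α (α⁻¹ s), map_mul α (g * h⁻¹), MulAut.apply_inv_self] at h4
  have h4 := (hk _).2 h3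
  rw [map_mul, map_mul, map_inv, map_inv] at h4
  exact mul_inv_eq_one.1 h4

/-- the automorphism induced on the central quotient -/
noncomputable def indu (hs : Function.Surjective π) (hk : ∀ g, π g = 1 ↔ g ∈ Subgroup.center S) :
    MulAut S →* MulAut M where
  toFun α :=
    { toFun := fun m => π (α (Function.surjInv hs m))
      invFun := fun m => π (α⁻¹ (Function.surjInv hs m))
      left_inv := fun m => by
        have h1 : π (α⁻¹ (Function.surjInv hs (π (α (Function.surjInv hs m))))) = π (α⁻¹ (α (Function.surjInv hs m))) :=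
          indu_wd hk α⁻¹ (Function.surjInv_eq hs _)
        exact h1.trans (by rw [MulAut.inv_apply_self, Function.surjInv_eq hs])
      right_inv := fun m => by
        have h1 : π (α (Function.surjInv hs (π (α⁻¹ (Function.surjInv hs m))))) = π (α (α⁻¹ (Function.surjInv hs m))) :=
          indu_wd hk α (Function.surjInv_eq hs _)
        exact h1.trans (by rw [MulAut.apply_inv_self, Function.surjInv_eq hs])
      map_mul' := fun m m' => by
        have h1 : π (α (Function.surjInv hs (m * m'))) = π (α (Function.surjInv hs m * Function.surjInv hs m')) :=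
          indu_wd hk α (by rw [Function.surjInv_eq hs, map_mul, Function.surjInv_eq hs, Function.surjInv_eq hs])
        rw [h1, map_mul, map_mul] }
  map_one' := by
    ext m
    exact Function.surjInv_eq hs m
  map_mul' := fun α β => by
    ext m
    have h1 : π (α (Function.surjInv hs (π (β (Function.surjInv hs m))))) = π (α (β (Function.surjInv hs m))) :=
      indu_wd hk α (Function.surjInv_eq hs _)
    exact h1.symm

theorem indu_apply (hs : Function.Surjective π) (hk : ∀ g, π g = 1 ↔ g ∈ Subgroup.center S) (α : MulAut S) (g : S) :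
    indu hs hk α (π g) = π (α g) := indu_wd hk α (Function.surjInv_eq hs _)

end indu

variable {F : Type*} [Field F] [Fintype F] {q : ℕ} {σ : F →+* F} [hσ : Fact (∀ x, σ (σ x) = x)]
  {M : Type u} [Group M] {π : SUG σ →* M}

theorem comm_of_pow {q : ℕ} {σ : F →+* F} (hp : ∀ x, σ x = x ^ q) (ρ : F ≃+* F) (x : F) : σ (ρ x) = ρ (σ x) := by
  rw [hp, hp, map_pow]

theorem mapS_mem {ρ : F ≃+* F} (hc : ∀ x, σ (ρ x) = ρ (σ x)) {g : Matrix.SpecialLinearGroup (Fin 3) F}
    (hg : g ∈ SUG σ) : Matrix.SpecialLinearGroup.map (ρ : F →+* F) g ∈ SUG σ := by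
  rw [mem_SUG_iff] at hg ⊢
  have h1 : ((g : Matrix (Fin 3) (Fin 3) F)ᵀ * Gm F * (g : Matrix (Fin 3) (Fin 3) F).map σ).map (ρ : F →+* F) =
      (Gm F).map (ρ : F →+* F) := by rw [hg]
  rw [Matrix.map_mul, Matrix.map_mul, Gm_map, Matrix.transpose_map] at h1
  have h2 : ((g : Matrix (Fin 3) (Fin 3) F).map σ).map (ρ : F →+* F) =
      ((g : Matrix (Fin 3) (Fin 3) F).map (ρ : F →+* F)).map σ := by
    ext i j
    simp only [Matrix.map_apply]
    exact (hc _).symm
  rw [h2] at h1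
  exact h1

/-- entrywise application -/
def mapS (ρ : F ≃+* F) (hc : ∀ x, σ (ρ x) = ρ (σ x)) : SUG σ →* SUG σ where
  toFun g := ⟨Matrix.SpecialLinearGroup.map (ρ : F →+* F) g.1, mapS_mem hc g.2⟩
  map_one' := Subtype.ext (map_one _)
  map_mul' g h := Subtype.ext (map_mul _ _ _)

theorem mapS_val (ρ : F ≃+* F) (hc : ∀ x, σ (ρ x) = ρ (σ x)) (g : SUG σ) (i j : Fin 3) :
    (mapS ρ hc g).1.1 i j = ρ (g.1.1 i j) := rfl

theorem sug_ext {g h : SUG σ} (e : ∀ i j, g.1.1 i j = h.1.1 i j) : g = h :=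
  Subtype.ext (Subtype.ext (Matrix.ext e))

/-- field automorphisms of `SUG σ` -/
def fldS (hp : ∀ x, σ x = x ^ q) : (F ≃+* F) →* MulAut (SUG σ) where
  toFun ρ :=
    { toFun := mapS ρ (comm_of_pow hp ρ)
      invFun := mapS ρ.symm (comm_of_pow hp ρ.symm)
      left_inv := fun g => sug_ext fun i j => by rw [mapS_val, mapS_val, RingEquiv.symm_apply_apply]
      right_inv := fun g => sug_ext fun i j => by rw [mapS_val, mapS_val, RingEquiv.apply_symm_apply]
      map_mul' := map_mul _ }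
  map_one' := MulEquiv.ext fun g => sug_ext fun i j => rfl
  map_mul' ρ ρ' := MulEquiv.ext fun g => sug_ext fun i j => rfl

theorem fldS_val (hp : ∀ x, σ x = x ^ q) (ρ : F ≃+* F) (g : SUG σ) (i j : Fin 3) :
    (fldS hp ρ g).1.1 i j = ρ (g.1.1 i j) := rfl

/-- the field automorphism on `HG σ` -/
def mapH (hp : ∀ x, σ x = x ^ q) (ρ : F ≃+* F) (x : HG σ) : HG σ :=
  ⟨ρ x.a, ρ x.b, by
    have h := congrArg ρ x.h
    simp only [map_add, map_mul, ← comm_of_pow hp] at h
    exact h⟩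

theorem fldS_emb (hp : ∀ x, σ x = x ^ q) (ρ : F ≃+* F) (x : HG σ) : fldS hp ρ (emb σ x) = emb σ (mapH hp ρ x) := by
  apply sug_ext
  intro i j
  rw [fldS_val, emb_val, emb_val]
  fin_cases i <;> fin_cases j <;> simp [umat, mapH, comm_of_pow hp]

theorem fldS_tor (hp : ∀ x, σ x = x ^ q) (ρ : F ≃+* F) (l : Fˣ) :
    fldS hp ρ (tor σ l) = tor σ (Units.map (ρ : F →* F) l) := by
  apply sug_ext
  intro i j
  rw [fldS_val, tor_val, tor_val]
  fin_cases i <;> fin_cases j <;> simp [tmat, comm_of_pow hp]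

theorem fldS_wel (hp : ∀ x, σ x = x ^ q) (ρ : F ≃+* F) : fldS hp ρ (wel σ) = wel σ := by
  apply sug_ext
  intro i j
  rw [fldS_val, wel_val]
  fin_cases i <;> fin_cases j <;> simp [Wm]

/-- **field automorphisms of `M`** -/
noncomputable def fld (E : Mod q π) : (F ≃+* F) →* MulAut M := (indu E.surj E.ker).comp (fldS E.pow)

theorem fld_apply (E : Mod q π) (ρ : F ≃+* F) (g : SUG σ) : fld E ρ (π g) = π (fldS E.pow ρ g) :=
  indu_apply E.surj E.ker _ g

theorem fld_emb (E : Mod q π) (ρ : F ≃+* F) (x : HG σ) : fld E ρ (π (emb σ x)) = π (emb σ (mapH E.pow ρ x)) := by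
  rw [fld_apply, fldS_emb]

theorem fld_tor (E : Mod q π) (ρ : F ≃+* F) (l : Fˣ) :
    fld E ρ (π (tor σ l)) = π (tor σ (Units.map (ρ : F →* F) l)) := by
  rw [fld_apply, fldS_tor]

theorem fld_wel (E : Mod q π) (ρ : F ≃+* F) : fld E ρ (π (wel σ)) = π (wel σ) := by
  rw [fld_apply, fldS_wel]

theorem fld_mem_U (E : Mod q π) (ρ : F ≃+* F) {u : M} (hu : u ∈ (emb σ).range.map π) :
    fld E ρ u ∈ (emb σ).range.map π := by
  obtain ⟨_, ⟨x, rfl⟩, rfl⟩ := hu
  rw [fld_emb]
  exact Subgroup.mem_map_of_mem _ ⟨_, rfl⟩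

theorem fld_mem_U_iff (E : Mod q π) (ρ : F ≃+* F) {u : M} :
    fld E ρ u ∈ (emb σ).range.map π ↔ u ∈ (emb σ).range.map π := by
  refine ⟨fun h => ?_, fld_mem_U E ρ⟩
  have h1 := fld_mem_U E ρ⁻¹ h
  rwa [map_inv, MulAut.inv_apply_self] at h1

theorem fld_mem_B (E : Mod q π) (ρ : F ≃+* F) {b : M} (hb : b ∈ (borel σ).map π) : fld E ρ b ∈ (borel σ).map π := by
  obtain ⟨g, hg, rfl⟩ := hb
  rw [fld_apply]
  refine Subgroup.mem_map_of_mem _ ?_
  have hg' := mem_borel.1 hg
  rw [mem_borel]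
  show ρ (g.1.1 1 0) = 0 ∧ ρ (g.1.1 2 0) = 0
  exact ⟨by rw [hg'.1, map_zero], by rw [hg'.2, map_zero]⟩

theorem fld_mem_B_iff (E : Mod q π) (ρ : F ≃+* F) {b : M} :
    fld E ρ b ∈ (borel σ).map π ↔ b ∈ (borel σ).map π := by
  refine ⟨fun h => ?_, fld_mem_B E ρ⟩
  have h1 := fld_mem_B E ρ⁻¹ h
  rwa [map_inv, MulAut.inv_apply_self] at h1

theorem unip_ne' (E : Mod q π) (hq : 1 < q) : (emb σ).range.map π ≠ ⊥ := E.unip_ne hq

/-- a field automorphism is not inner -/
theorem eq_one_of_isInn (E : Mod q π) (hq : 1 < q) {ρ : F ≃+* F} (h : IsInn (fld E ρ)) : ρ = 1 := by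
  obtain ⟨m, hm⟩ := h
  have hN := E.data.normalizer_eq (E.unip_ne hq)
  have h1 : m ∈ (borel σ).map π := by
    rw [← hN, Subgroup.mem_normalizer_iff]
    intro u
    rw [← hm, fld_mem_U_iff]
  have h2 : (π (wel σ))⁻¹ * m * π (wel σ) ∈ (borel σ).map π := by
    rw [← hN, Subgroup.mem_normalizer_iff]
    intro u
    have e : (π (wel σ))⁻¹ * m * π (wel σ) * u * ((π (wel σ))⁻¹ * m * π (wel σ))⁻¹ = fld E ρ u := by
      have e1 : (π (wel σ))⁻¹ * m * π (wel σ) * u * ((π (wel σ))⁻¹ * m * π (wel σ))⁻¹ =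
          (π (wel σ))⁻¹ * (m * (π (wel σ) * u * (π (wel σ))⁻¹) * m⁻¹) * π (wel σ) := by group
      rw [e1, ← hm, map_mul, map_mul, map_inv, fld_wel]
      group
    rw [e, fld_mem_U_iff]
  obtain ⟨l, rfl⟩ := E.mem_two_iff h1 h2
  have h3 : ∀ x : HG σ, ρ x.a = (l : F) ^ 2 / σ (l : F) * x.a := by
    intro x
    have h4 := hm (π (emb σ x))
    rw [fld_emb, tor_conj] at h4
    exact congrArg HG.a (E.emb_inj h4)
  have h5 : ∀ a : F, ρ a = (l : F) ^ 2 / σ (l : F) * a := by
    intro a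
    obtain ⟨x, hx⟩ := H212.U3.Model.exists_a E.card E.pow (σ := σ) a
    rw [← hx]
    exact h3 x
  have h6 := h5 1
  rw [map_one, mul_one] at h6
  ext a
  rw [h5, ← h6, one_mul]
  rfl

/-- trivial centre -/
theorem center_triv (E : Mod q π) (hq : 1 < q) [IsSimpleGroup M] (g : M) (hg : ∀ x, g * x = x * g) : g = 1 := by
  by_contra hne
  have h1 : Subgroup.center M = ⊤ := by
    rcases (inferInstance : (Subgroup.center M).Normal).eq_bot_or_eq_top with h | h
    · exact absurd (Subgroup.mem_bot.1 (h ▸ Subgroup.mem_center_iff.2 fun x => (hg x).symm)) hne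
    · exact h
  have h2 : Subgroup.normalizer (((emb σ).range.map π : Subgroup M) : Set M) = ⊤ := by
    rw [eq_top_iff]
    intro m _
    rw [Subgroup.mem_normalizer_iff]
    intro u
    have h3 : u ∈ Subgroup.center M := by rw [h1]; exact Subgroup.mem_top u
    have h4 : m * u * m⁻¹ = u := by
      rw [(Subgroup.mem_center_iff.1 h3 m), mul_inv_cancel_right]
    rw [h4]
  rw [E.data.normalizer_eq (E.unip_ne hq)] at h2
  exact E.data.w_not_mem (by rw [h2]; exact Subgroup.mem_top _)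

/-- the exponent of the field -/
theorem exists_exp (F : Type*) [Field F] [Fintype F] [CharP F 2] {q : ℕ} (hF : Fintype.card F = q ^ 2) :
    ∃ f : ℕ, 1 ≤ f ∧ q = 2 ^ f := by
  obtain ⟨n, -, hn⟩ := FiniteField.card F 2
  have h1 : q ∣ 2 ^ (n : ℕ) := by rw [← hn, hF]; exact dvd_pow_self q (by norm_num)
  obtain ⟨k, -, hk⟩ := (Nat.dvd_prime_pow Nat.prime_two).1 h1
  refine ⟨k, ?_, hk⟩
  by_contra h
  have : k = 0 := by omega
  subst this
  rw [pow_zero] at hk
  rw [hk] at hF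
  have := Fintype.one_lt_card (α := F)
  omega

/-- **reduction of the 2-automorphisms** -/
theorem exists_red {F : Type} [Field F] [Fintype F] [CharP F 2] {q : ℕ} {σ : F →+* F} [hσ : Fact (∀ x, σ (σ x) = x)]
    {π : SUG σ →* PSU 3 F q} (E : Mod q π) (hF : Fintype.card F = q ^ 2) (hq : 2 < q) [IsSimpleGroup (PSU 3 F q)]
    {τ : MulAut (PSU 3 F q)} (hτ : TwoPow τ) :
    ∃ (x : MulAut (PSU 3 F q)) (g : PSU 3 F q) (ρ : F ≃+* F), x * τ * x⁻¹ = MulAut.conj g * fld E ρ := by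
  have hfin : Finite (PSU 3 F q) := Finite.of_surjective π E.surj
  obtain ⟨f, hf, hqf⟩ := exists_exp F hF
  have : Fact (Nat.Prime 2) := ⟨Nat.prime_two⟩
  have hG : Nat.card (F ≃+* F) = 2 * f :=
    Cfsg.Agent.Lib.FieldAutCard.card_ringAut (p := 2) (by omega) (by rw [hF, hqf, ← pow_mul, mul_comm])
  refine Red.reduce (fld E) (fun ρ h => eq_one_of_isInn E (by omega) h) (d := Nat.gcd 3 (q + 1)) ?_
    (center_triv E (by omega)) ?_ hτ
  · intro h
    have h1 : 2 ∣ 3 := h.trans (Nat.gcd_dvd_left _ _)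
    omega
  · rw [hG]
    exact S0815.result 2 f hf hqf hF 3 le_rfl (by omega)

end Cfsg.Agent.H805.K547.PSU3
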