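import Cfsg.Agent.H805.K547.PSU3Chi
import Cfsg.Agent.H151.K547.ExtAlt
import Cfsg.Agent.H42.K547.EvenDefs

/-!
# S4547-QE6: the row `PSU₃(q)`, `q ≥ 4` even, from the special case (helper805)

* `StSpec` : the special outer 2-automorphisms (helper42);
* `ge_psu3` : `GE (PSU 3 F q)`, the field `psu3` of `EvenSmall`.
-/

set_option autoImplicit false
set_option linter.unusedSectionVars false

open Cfsg

namespace Cfsg.Agent.H805.K547.PSU3

open Cfsg.Agent.H821.K547 Cfsg.Agent.H151.K547 Cfsg.Agent.H42.K547.Even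

/-- the special outer 2-automorphisms of `PSU₃(2 ^ f)` -/
def StSpec : Prop :=
  ∀ {F : Type} [Field F] [Fintype F] {f : ℕ}, 2 ≤ f → Fintype.card F = (2 ^ f) ^ 2 →
    IsSimpleGroup (PSU 3 F (2 ^ f)) → ∀ τ : MulAut (PSU 3 F (2 ^ f)), TwoPow τ → ¬ IsInn τ → Spec τ (2 * f) → ExtRow _ τ

/-- `GInv3` or special -/
theorem gInv3_or {F : Type} [Field F] [Fintype F] [CharP F 2] {f : ℕ} (hf : 2 ≤ f)
    (hF : Fintype.card F = (2 ^ f) ^ 2) [IsSimpleGroup (PSU 3 F (2 ^ f))] {τ : MulAut (PSU 3 F (2 ^ f))} (hτ : TwoPow τ)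
    (ho : ¬ IsInn τ) : GInv3 τ ∨ Spec τ (2 * f) := by
  by_cases hs : (∃ b : ℕ, f = 2 ^ b) ∧ ∀ j : ℕ, IsInn (τ ^ j) → 2 * f ∣ j
  · obtain ⟨⟨b, hb⟩, hs⟩ := hs
    exact Or.inr ⟨⟨b + 1, by rw [hb, pow_succ, mul_comm]⟩, hs⟩
  · refine Or.inl (gInv3_psu3 hF rfl ?_ hτ ho hs)
    calc 4 = 2 ^ 2 := rfl
      _ ≤ 2 ^ f := Nat.pow_le_pow_right (by norm_num) hf

/-- **the row** -/
theorem ge_psu3 (hsp : StSpec) {F : Type} [Field F] [Fintype F] [CharP F 2] {q : ℕ} (hF : Fintype.card F = q ^ 2)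
    (hq : 4 ≤ q) [IsSimpleGroup (PSU 3 F q)] : GE (PSU 3 F q) := by
  intro τ hτ ho
  obtain ⟨f, hf, rfl⟩ := exists_exp F hF
  have hf2 : 2 ≤ f := by
    by_contra h
    have : f = 1 := by omega
    subst this
    norm_num at hq
  rcases gInv3_or hf2 hF hτ ho with h | h
  · exact Or.inl h
  · exact Or.inr (hsp hf2 hF inferInstance τ hτ ho h)

end Cfsg.Agent.H805.K547.PSU3
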