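import Cfsg.Agent.H805.K547.SylM22
import Cfsg.Agent.H921.K4.M23Good
import Cfsg.Agent.S2063

/-!
# S4547: the row of `M23` (helper805)
-/

set_option autoImplicit false

namespace Cfsg.Agent.H805.K547

open Cfsg Cfsg.Agent.H821.K547

universe u v

theorem isInn_of_equiv {S : Type u} {K : Type v} [Group S] [Group K] (e : S ≃* K)
    (hK : Nat.card (Cfsg.Out K) = 1) (τ : MulAut S) : IsInn τ := by
  have h1 : (Cfsg.Inn K) = ⊤ := Subgroup.index_eq_one.1 hK
  have h2 : (e.symm.trans τ).trans e ∈ Cfsg.Inn K := by rw [h1]; exact Subgroup.mem_top _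
  obtain ⟨k, hk⟩ := h2
  refine ⟨e.symm k, fun x => ?_⟩
  have h3 : k * e x * k⁻¹ = e (τ (e.symm (e x))) := congrArg (fun α : MulAut K => α (e x)) hk
  rw [e.symm_apply_apply] at h3
  apply e.injective
  rw [← h3, map_mul, map_mul, map_inv, e.apply_symm_apply]

/-- **The row of `M23`.** -/
theorem row_m23 {S : Type u} [Group S] (h : Cfsg.Spor.IsoM23 S) : Row S := by
  have h' := h
  obtain ⟨e⟩ := h'
  have hfin : Finite S := Nat.finite_of_card_ne_zero (by
    rw [Nat.card_congr e.toEquiv, Cfsg.Agent.SporadicA.MathieuRecog.card_M23]; norm_num)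
  exact ⟨Or.inl ⟨Cfsg.Agent.H921.K4.M23.good5 h, d3_m23 h⟩,
    fun τ _ hτ => absurd (isInn_of_equiv e Cfsg.Agent.S2063.result τ) hτ⟩

end Cfsg.Agent.H805.K547
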