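import Cfsg.Agent.H612.K4.SzU3

/-!
# Induced characters of rank one groups and automorphisms (helper805, S4547-QE6)

* `indFun_aut`, `indFun_eq_of_conj`;
* `exists_base` : the characters `indFun B (f ^ j)`;
* `inv_of` : invariance under an automorphism which normalises `B`, `U` and the torus.
-/

set_option autoImplicit false
set_option linter.unusedSectionVars false

open scoped ComplexConjugate
open Cfsg

namespace Cfsg.Agent.H805.K547.RankAut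

open Cfsg.Agent.OddOrderCharacters.Clifford Cfsg.Agent.Characters Cfsg.Agent.LieRecognition.RankOneAbstract
open Cfsg.Agent.H601.K4 Cfsg.Agent.H967.K4 Cfsg.Agent.CharactersDeep.MackeyLinear Cfsg.Agent.H612.K4

universe u

section

variable {G : Type u} [Group G]

/-- composition of an induced function with an automorphism -/
theorem indFun_aut [Fintype G] {B : Subgroup G} (β : MulAut G) (hB : ∀ b, β b ∈ B ↔ b ∈ B) (θ θ' : B → ℂ)
    (h : ∀ (b : G) (hb : b ∈ B) (hb' : β b ∈ B), θ ⟨β b, hb'⟩ = θ' ⟨b, hb⟩) (x : G) :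
    indFun B θ (β x) = indFun B θ' x := by
  rw [indFun_apply, indFun_apply]
  congr 1
  rw [← Equiv.sum_comp β.toEquiv]
  refine Finset.sum_congr rfl fun z _ => ?_
  have e : (β z)⁻¹ * β x * β z = β (z⁻¹ * x * z) := by simp
  show extendByZero B θ ((β z)⁻¹ * β x * β z) = _
  rw [e]
  by_cases hz : z⁻¹ * x * z ∈ B
  · rw [ext_apply_mem B _ _ ((hB _).2 hz), ext_apply_mem B _ _ hz]
    exact h _ _ _
  · rw [ext_apply_not_mem B _ _ (fun h => hz ((hB _).1 h)), ext_apply_not_mem B _ _ hz]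

/-- conjugate linear characters induce to the same character -/
theorem indFun_eq_of_conj [Fintype G] (B : Subgroup G) (f g : B →* ℂˣ)
    (hf : IsIrrCharacter G (indFun B (fun t => (f t : ℂ)))) (hg : IsIrrCharacter G (indFun B (fun t => (g t : ℂ))))
    (x : G) (h : ∀ (t : G) (ht : t ∈ B) (hx : x⁻¹ * t * x ∈ B), f ⟨t, ht⟩ = g ⟨x⁻¹ * t * x, hx⟩) :
    indFun B (fun t => (f t : ℂ)) = indFun B (fun t => (g t : ℂ)) := by
  classical
  have : Fintype B := Fintype.ofFinite B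
  by_contra hne
  have h0 := Core.classInner_irr_ne hf hg hne
  rw [classInner_indFun_indFun] at h0
  have hnat : ∀ y, ∃ n : ℕ, twist B (fun t => (f t : ℂ)) (fun t => (g t : ℂ)) y = n := fun y =>
    twist_eq_nat B (Linear.isCharacter_hom f) (Linear.isCharacter_hom g) y
  choose n hn using hnat
  have h1 : (Nat.card B : ℂ) ≠ 0 := card_ne_zero'
  have h2 : ∑ y : G, twist B (fun t => (f t : ℂ)) (fun t => (g t : ℂ)) y = 0 := by
    have h3 := (mul_eq_zero.1 h0).resolve_left (inv_ne_zero h1)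
    exact (mul_eq_zero.1 h3).resolve_left (inv_ne_zero h1)
  have h3 : ∑ y : G, n y = 0 := by
    have h4 : ((∑ y : G, n y : ℕ) : ℂ) = 0 := by
      rw [Nat.cast_sum, ← h2]
      exact Finset.sum_congr rfl fun y _ => (hn y).symm
    exact_mod_cast h4
  have h4 : n x = 0 := (Finset.sum_eq_zero_iff.1 h3) x (Finset.mem_univ x)
  have h5 : twist B (fun t => (f t : ℂ)) (fun t => (g t : ℂ)) x = (Nat.card (dsub B x) : ℂ) := by
    rw [twist_def, sum_eq_sum_subgroup (dsub B x)]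
    · rw [Finset.sum_congr rfl (g := fun _ => (1 : ℂ)) fun d _ => ?_, Finset.sum_const, Finset.card_univ,
        nsmul_eq_mul, mul_one, Nat.card_eq_fintype_card]
      have hd := (mem_dsub B x d).1 d.2
      rw [ext_apply_mem B _ _ hd, h ((d : B) : G) (d : B).2 hd]
      exact mul_conj_hom g _
    · intro t ht
      rw [mem_dsub] at ht
      rw [ext_apply_not_mem B _ _ ht, map_zero, mul_zero]
  rw [hn, h4, Nat.cast_zero] at h5
  exact card_ne_zero' h5.symm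

/-- an induced character composed with an automorphism is irreducible -/
theorem isIrr_comp_aut (β : MulAut G) {χ : G → ℂ} (h : IsIrrCharacter G χ) : IsIrrCharacter G (fun x => χ (β x)) :=
  Core.isIrr_comp β.toMonoidHom β.surjective h

end

section rank

variable {G : Type u} [Group G] {B U : Subgroup G} {w : G}

/-- **the induced characters** `indFun B (f ^ j)` -/
theorem exists_base [Finite G] (D : Data B U w) (hU : IsPGroup 2 U) (hU1 : U ≠ ⊥) {t₀ : G} (ht : t₀ ∈ B) {e : ℕ}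
    (hw : w * t₀ * w⁻¹ = t₀ ^ e) (hgen : ∀ b ∈ B, ∃ u ∈ U, ∃ k : ℕ, b = u * t₀ ^ k) {n : ℕ} (hn : orderOf t₀ = n)
    (hodd : Odd n) : ∃ (ξ : ℂˣ) (f : B →* ℂˣ), IsPrimitiveRoot ξ n ∧ f ⟨t₀, ht⟩ = ξ ∧
      (∀ (u : G) (hu : u ∈ U), f ⟨u, D.le hu⟩ = 1) ∧
      ∀ _ : Fintype G,
        (∀ j : ℕ, (j : ZMod n) * e ≠ j → OddIrr (indFun B (fun t => ((f ^ j) t : ℂ))) ∧
          SF (indFun B (fun t => ((f ^ j) t : ℂ))) ∧ indFun B (fun t => ((f ^ j) t : ℂ)) 1 = B.index ∧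
          ∀ x : G, (∀ g : G, g⁻¹ * x * g ∉ B) → indFun B (fun t => ((f ^ j) t : ℂ)) x = 0) ∧
        ∀ j j' : ℕ, (j : ZMod n) * e ≠ j → (j : ZMod n) ≠ j' → (j : ZMod n) * e ≠ j' →
          indFun B (fun t => ((f ^ j) t : ℂ)) ≠ indFun B (fun t => ((f ^ j') t : ℂ)) := by
  classical
  have hn0 : n ≠ 0 := by
    rintro rfl
    exact absurd hodd (by decide)
  have : NeZero n := ⟨hn0⟩
  have hint : ∀ k : ℕ, t₀ ^ k ∈ U → t₀ ^ k = 1 := by
    intro k hk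
    obtain ⟨i, hi⟩ := hU ⟨t₀ ^ k, hk⟩
    have h1 : (t₀ ^ k) ^ 2 ^ i = 1 := congrArg Subtype.val hi
    have h2 : orderOf (t₀ ^ k) ∣ 2 ^ i := orderOf_dvd_of_pow_eq_one h1
    have h3 : orderOf (t₀ ^ k) ∣ n := by rw [← hn]; exact orderOf_pow_dvd k
    have h4 : Nat.Coprime (2 ^ i) n := Nat.Coprime.pow_left _ (Nat.coprime_two_left.2 hodd)
    exact orderOf_eq_one_iff.1 (Nat.eq_one_of_dvd_coprimes h4 h2 h3)
  -- a primitive root
  obtain ⟨ζ, hζ⟩ := HasEnoughRootsOfUnity.exists_primitiveRoot ℂ n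
  obtain ⟨ξ, hξ⟩ : ∃ ξ : ℂˣ, (ξ : ℂ) = ζ := ⟨(hζ.isUnit hn0).unit, rfl⟩
  have hξn : IsPrimitiveRoot ξ n := by
    rw [← IsPrimitiveRoot.coe_units_iff, hξ]
    exact hζ
  have hξn' : orderOf ξ = n := hξn.eq_orderOf.symm
  obtain ⟨f, hf, hf1⟩ := exists_lin D ht hgen hint (ζ := ξ) (by rw [hn]; exact hξn.pow_eq_one)
  have hg : ∀ j : ℕ, (f ^ j) ⟨t₀, ht⟩ = ξ ^ j := fun j => by
    rw [MonoidHom.pow_apply, hf]
  have hpow : ∀ k l : ℕ, ξ ^ k = ξ ^ l → (k : ZMod n) = l := by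
    intro k l h
    rw [pow_eq_pow_iff_modEq, hξn'] at h
    exact (ZMod.natCast_eq_natCast_iff _ _ _).2 h
  have hwB : w * t₀ * w⁻¹ ∈ B := by rw [hw]; exact B.pow_mem ht e
  have hgw : ∀ j : ℕ, (f ^ j) ⟨w * t₀ * w⁻¹, hwB⟩ = ξ ^ (j * e) := by
    intro j
    have h1 : (⟨w * t₀ * w⁻¹, hwB⟩ : B) = ⟨t₀, ht⟩ ^ e := Subtype.ext hw
    rw [h1, map_pow, hg, pow_mul]
  -- the elements outside `B`
  have hout : ∀ a b : ℕ, (a : ZMod n) * e ≠ b → ∀ x : G, x ∉ B →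
      ∃ (t : B) (hx : x⁻¹ * t * x ∈ B), (f ^ a) t ≠ (f ^ b) ⟨x⁻¹ * t * x, hx⟩ := by
    intro a b hab x hx
    obtain ⟨s, hs, hsx⟩ := D.bruhat x hx
    set k := (s * w)⁻¹ * x with hk
    have hxe : x = s * w * k := by rw [hk]; group
    have hsH : s ∈ B := D.le hs
    refine ⟨⟨s, hsH⟩ * ⟨w * t₀ * w⁻¹, hwB⟩ * ⟨s, hsH⟩⁻¹, ?_, ?_⟩
    · have h1 : x⁻¹ * ((⟨s, hsH⟩ * ⟨w * t₀ * w⁻¹, hwB⟩ * ⟨s, hsH⟩⁻¹ : B) : G) * x =
          k⁻¹ * t₀ * k := by
        rw [hxe]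
        simp only [Subgroup.coe_mul, InvMemClass.coe_inv]
        group
      rw [h1]
      exact B.mul_mem (B.mul_mem (B.inv_mem hsx) ht) hsx
    · have h1 : (f ^ a) (⟨s, hsH⟩ * ⟨w * t₀ * w⁻¹, hwB⟩ * ⟨s, hsH⟩⁻¹) = (f ^ a) ⟨w * t₀ * w⁻¹, hwB⟩ := by
        rw [map_mul, map_mul, map_inv, mul_comm ((f ^ a) ⟨s, hsH⟩), mul_inv_cancel_right]
      rw [h1]
      have h2 : ∀ (hh : x⁻¹ * ((⟨s, hsH⟩ * ⟨w * t₀ * w⁻¹, hwB⟩ * ⟨s, hsH⟩⁻¹ : B) : G) * x ∈ B),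
          (⟨_, hh⟩ : B) = ⟨k, hsx⟩⁻¹ * ⟨t₀, ht⟩ * ⟨k, hsx⟩ := by
        intro hh
        apply Subtype.ext
        simp only [Subgroup.coe_mul, InvMemClass.coe_inv]
        rw [hxe]
        group
      rw [h2, map_mul, map_mul, map_inv, mul_comm ((f ^ b) ⟨k, hsx⟩)⁻¹, inv_mul_cancel_right, hgw, hg]
      intro h
      have h3 := hpow _ _ h
      rw [Nat.cast_mul] at h3
      exact hab h3
  refine ⟨ξ, f, hξn, hf, hf1, fun _ => ⟨fun j hj => ?_, fun j j' hj hjj hje => ?_⟩⟩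
  · have hirr : IsIrrCharacter G (indFun B (fun t => ((f ^ j) t : ℂ))) :=
      isIrrCharacter_indFun B (f ^ j) fun x hx => hout j j hj x hx
    have hdeg : indFun B (fun t => ((f ^ j) t : ℂ)) 1 = B.index := by
      rw [indFun_apply]
      have h1 : ∀ x : G, extendByZero B (fun t => ((f ^ j) t : ℂ)) (x⁻¹ * 1 * x) = 1 := by
        intro x
        have h2 : x⁻¹ * 1 * x = 1 := by group
        rw [h2, ext_apply_mem B _ _ B.one_mem]
        have h3 : (⟨1, B.one_mem⟩ : B) = 1 := rfl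
        rw [h3, map_one, Units.val_one]
      rw [Finset.sum_congr rfl fun x _ => h1 x, Finset.sum_const, Finset.card_univ, nsmul_eq_mul, mul_one,
        ← Nat.card_eq_fintype_card, ← B.index_mul_card, Nat.cast_mul]
      have h2 : (Nat.card B : ℂ) ≠ 0 := by exact_mod_cast Nat.card_pos.ne'
      field_simp
    have hidx : Odd B.index := by
      have := D.index
      rw [this]
      have h1 : Even (Nat.card U) := by
        obtain ⟨k, hk⟩ := IsPGroup.iff_card.1 hU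
        rw [hk]
        refine (Nat.even_pow.2 ⟨even_two, ?_⟩)
        rintro rfl
        rw [pow_zero] at hk
        exact hU1 (Subgroup.eq_bot_of_card_eq _ hk)
      exact h1.add_one
    refine ⟨⟨hirr, ?_⟩, ?_, hdeg, ?_⟩
    · rw [Cfsg.Agent.Blocks.Basic.charDegree_of_eq hdeg]
      exact fun h => (Nat.not_even_iff_odd.2 hidx) (even_iff_two_dvd.2 h)
    · refine SF.ind ?_
      -- the 2-elements of `B` are in `U`
      intro u s _ hu _
      have h1 : (f ^ j) u = 1 := by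
        obtain ⟨k, hk⟩ := hu
        obtain ⟨v, hv, l, hl⟩ := hgen u u.2
        have h2 : (f ^ j) u = ξ ^ (j * l) := by
          have h3 : u = ⟨v, D.le hv⟩ * ⟨t₀, ht⟩ ^ l := Subtype.ext hl
          have h4 : (f ^ j) ⟨v, D.le hv⟩ = 1 := by
            rw [MonoidHom.pow_apply, hf1 v hv, one_pow]
          rw [h3, map_mul, h4, one_mul, map_pow, hg, ← pow_mul]
        have h3 : orderOf ((f ^ j) u) ∣ n := by
          refine orderOf_dvd_of_pow_eq_one ?_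
          rw [h2, ← pow_mul, mul_comm, pow_mul, hξn.pow_eq_one, one_pow]
        have h4 : orderOf ((f ^ j) u) ∣ 2 ^ k := by rw [← hk]; exact orderOf_map_dvd _ u
        have h5 : Nat.Coprime (2 ^ k) n := Nat.Coprime.pow_left _ (Nat.coprime_two_left.2 hodd)
        exact orderOf_eq_one_iff.1 (Nat.eq_one_of_dvd_coprimes h5 h4 h3)
      change (((f ^ j) (u ^ 3 * s) : ℂˣ) : ℂ) = ((f ^ j) (u * s) : ℂˣ)
      rw [map_mul, map_mul, map_pow, h1, one_pow]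
    · intro x hx
      rw [indFun_apply]
      rw [Finset.sum_eq_zero fun y _ => ext_apply_not_mem B _ _ (hx y), mul_zero]
  · have hirr : IsIrrCharacter G (indFun B (fun t => ((f ^ j) t : ℂ))) :=
      isIrrCharacter_indFun B (f ^ j) fun x hx => hout j j hj x hx
    refine indFun_ne B (f ^ j) (f ^ j') hirr (fun x => ?_)
    by_cases hx : x ∈ B
    · refine ⟨⟨t₀, ht⟩, B.mul_mem (B.mul_mem (B.inv_mem hx) ht) hx, ?_⟩
      have h1 : (⟨x⁻¹ * ((⟨t₀, ht⟩ : B) : G) * x, B.mul_mem (B.mul_mem (B.inv_mem hx) ht) hx⟩ : B) =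
          ⟨x, hx⟩⁻¹ * ⟨t₀, ht⟩ * ⟨x, hx⟩ := rfl
      rw [h1, map_mul, map_mul, map_inv, mul_comm ((f ^ j') ⟨x, hx⟩)⁻¹, inv_mul_cancel_right, hg, hg]
      intro h
      exact hjj (hpow _ _ h)
    · exact hout j j' hje x hx

/-- **invariance under an automorphism** -/
theorem inv_of [Fintype G] (D : Data B U w) {t₀ : G} (ht : t₀ ∈ B) {e : ℕ}
    (hw : w * t₀ * w⁻¹ = t₀ ^ e) (hgen : ∀ b ∈ B, ∃ u ∈ U, ∃ k : ℕ, b = u * t₀ ^ k)
    (hwt : ∀ t ∈ B, w * t * w⁻¹ ∈ B → ∃ k : ℕ, t = t₀ ^ k) {n : ℕ} {ξ : ℂˣ} {f : B →* ℂˣ}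
    (hξ : IsPrimitiveRoot ξ n) (hf : f ⟨t₀, ht⟩ = ξ) (hf1 : ∀ (u : G) (hu : u ∈ U), f ⟨u, D.le hu⟩ = 1)
    {β : MulAut G} (hβB : ∀ b, β b ∈ B ↔ b ∈ B) (hβU : ∀ u ∈ U, β u ∈ U) {a : ℕ} (hβt : β t₀ = t₀ ^ a)
    {j : ℕ} (hj : IsIrrCharacter G (indFun B (fun t => ((f ^ j) t : ℂ))))
    (hja : (j : ZMod n) * a = j ∨ (j : ZMod n) * a = j * e) (x : G) :
    indFun B (fun t => ((f ^ j) t : ℂ)) (β x) = indFun B (fun t => ((f ^ j) t : ℂ)) x := by
  classical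
  have hn0 : ∀ b : B, f b ^ n = 1 := by
    intro b
    obtain ⟨u, hu, k, hb⟩ := hgen b b.2
    have h3 : b = ⟨u, D.le hu⟩ * ⟨t₀, ht⟩ ^ k := Subtype.ext hb
    rw [h3, map_mul, hf1 u hu, one_mul, map_pow, hf, ← pow_mul, mul_comm, pow_mul, hξ.pow_eq_one, one_pow]
  have hmod : ∀ k l : ℕ, (k : ZMod n) = l → f ^ k = f ^ l := by
    intro k l h
    have h1 : k ≡ l [MOD n] := (ZMod.natCast_eq_natCast_iff _ _ _).1 h
    refine MonoidHom.ext fun b => ?_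
    rw [MonoidHom.pow_apply, MonoidHom.pow_apply]
    exact (pow_eq_pow_iff_modEq).2 (h1.of_dvd (orderOf_dvd_of_pow_eq_one (hn0 b)))
  have hfβ : ∀ (b : G) (hb : b ∈ B) (hb' : β b ∈ B), f ⟨β b, hb'⟩ = (f ⟨b, hb⟩) ^ a := by
    intro b hb hb'
    obtain ⟨u, hu, k, rfl⟩ := hgen b hb
    have h3 : (⟨u * t₀ ^ k, hb⟩ : B) = ⟨u, D.le hu⟩ * ⟨t₀, ht⟩ ^ k := rfl
    have h4 : (⟨β (u * t₀ ^ k), hb'⟩ : B) = ⟨β u, D.le (hβU u hu)⟩ * (⟨t₀, ht⟩ ^ a) ^ k := by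
      apply Subtype.ext
      show β (u * t₀ ^ k) = β u * (t₀ ^ a) ^ k
      rw [map_mul, map_pow, hβt]
    rw [h3, h4, map_mul, map_mul, hf1 _ (hβU u hu), hf1 u hu, one_mul, one_mul, map_pow, map_pow, map_pow, ← pow_mul,
      ← pow_mul, mul_comm]
  have h1 : ∀ x, indFun B (fun t => ((f ^ j) t : ℂ)) (β x) = indFun B (fun t => ((f ^ (j * a)) t : ℂ)) x := by
    refine indFun_aut β hβB _ _ fun b hb hb' => ?_
    show (((f ^ j) ⟨β b, hb'⟩ : ℂˣ) : ℂ) = ((f ^ (j * a)) ⟨b, hb⟩ : ℂˣ)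
    rw [MonoidHom.pow_apply, MonoidHom.pow_apply, hfβ b hb hb', ← pow_mul, mul_comm a j]
  rcases hja with hja | hja
  · rw [h1, hmod (j * a) j (by rw [Nat.cast_mul]; exact hja)]
  · have h2 : f ^ (j * a) = f ^ (j * e) := hmod _ _ (by rw [Nat.cast_mul, Nat.cast_mul]; exact hja)
    have h3 : (fun x => indFun B (fun t => ((f ^ j) t : ℂ)) (β x)) = indFun B (fun t => ((f ^ (j * e)) t : ℂ)) := by
      funext x
      rw [h1, h2]
    have h4 : IsIrrCharacter G (indFun B (fun t => ((f ^ (j * e)) t : ℂ))) := by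
      rw [← h3]
      exact isIrr_comp_aut β hj
    have h5 := indFun_eq_of_conj B (f ^ (j * e)) (f ^ j) h4 hj w⁻¹ (by
      intro t htB htx
      rw [inv_inv] at htx
      obtain ⟨k, rfl⟩ := hwt t htB htx
      have h6 : (⟨w⁻¹⁻¹ * t₀ ^ k * w⁻¹, by rw [inv_inv]; exact htx⟩ : B) = (⟨t₀, ht⟩ ^ e) ^ k := by
        apply Subtype.ext
        show w⁻¹⁻¹ * t₀ ^ k * w⁻¹ = (t₀ ^ e) ^ k
        rw [inv_inv, ← hw, conj_pow]
      have h7 : (⟨t₀ ^ k, htB⟩ : B) = ⟨t₀, ht⟩ ^ k := rfl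
      rw [h6, h7, map_pow, map_pow, map_pow, MonoidHom.pow_apply, MonoidHom.pow_apply, ← pow_mul, ← pow_mul,
        ← pow_mul, mul_assoc])
    rw [h1, h2, h5]

end rank

end Cfsg.Agent.H805.K547.RankAut
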