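import Cfsg.Agent.H805.K547.PSU3Red
import Cfsg.Agent.H805.K547.RankAut
import Cfsg.Agent.H307.QE.Defs
import Cfsg.Agent.H601.K4.InvClass
import Cfsg.Agent.StdRank2.OutSpCyc

/-!
# S4547-QE6: three invariant good characters of `PSU₃(q)`, `q ≥ 4` even (helper805)

* `exists_inv` : induced characters invariant under a field automorphism;
* `gInv3_four` : `q = 4`;
* `gInv3_psu3`.
-/

set_option autoImplicit false
set_option linter.unusedSectionVars false

open Cfsg

namespace Cfsg.Agent.H805.K547.PSU3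

open Cfsg.Agent.H601.K4 Cfsg.Agent.H821.K547 Cfsg.Agent.LieRecognition.RankOneAbstract Cfsg.Agent.H307.QE
open Cfsg.Agent.H705.PSU Cfsg.Agent.UThreeGen.MatGroup Cfsg.Agent.H967.K4 Cfsg.Agent.H612.K4
open Cfsg.Agent.HKS.EndU (tor tmat tor_val tor_mem act tor_emb ci ci_val wel_tor exists_tor tor_mem_center sne tor_conj)

universe u

open Matrix

/-! ### arithmetic -/

section arith

variable {q m n : ℕ}

theorem cast_eq_iff (hq : 1 < q) (hm : 0 < m) (hn : n = m * (q - 1)) (i i' : ℕ) :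
    ((m * i : ℕ) : ZMod n) = ((m * i' : ℕ) : ZMod n) ↔ i ≡ i' [MOD q - 1] := by
  rw [ZMod.natCast_eq_natCast_iff, hn]
  exact Nat.ModEq.mul_left_cancel_iff' hm.ne'

theorem cast_mul_iff (hq : 1 < q) (hm : 0 < m) (hn : n = m * (q - 1)) (i i' : ℕ) :
    ((m * i : ℕ) : ZMod n) * (((n - 1) * q : ℕ) : ZMod n) = ((m * i' : ℕ) : ZMod n) ↔ (q - 1) ∣ i + i' := by
  have hn0 : 1 ≤ n := by
    rw [hn]
    exact Nat.mul_pos hm (by omega)
  have h1 : (((n - 1) * q : ℕ) : ZMod n) = -(q : ZMod n) := by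
    rw [Nat.cast_mul, Nat.cast_sub hn0, ZMod.natCast_self, Nat.cast_one, zero_sub, neg_one_mul]
  rw [h1, mul_neg]
  have h2 : -(((m * i : ℕ) : ZMod n) * (q : ZMod n)) = ((m * i' : ℕ) : ZMod n) ↔
      ((m * (i * q + i') : ℕ) : ZMod n) = 0 := by
    rw [neg_eq_iff_add_eq_zero]
    push_cast
    constructor
    · intro h; rw [← h]; ring
    · intro h; rw [← h]; ring
  rw [h2, ZMod.natCast_eq_zero_iff, hn, Nat.mul_dvd_mul_iff_left hm]
  obtain ⟨k, rfl⟩ : ∃ k, q = k + 1 := ⟨q - 1, by omega⟩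
  simp only [Nat.add_sub_cancel]
  have h3 : i * (k + 1) + i' = (i + i') + k * i := by ring
  rw [h3]
  exact (Nat.dvd_add_left (dvd_mul_right k i))

end arith

variable {F : Type*} [Field F] [Fintype F] {q : ℕ} {σ : F →+* F} [hσ : Fact (∀ x, σ (σ x) = x)]
  {M : Type u} [Group M] {π : SUG σ →* M}

/-- **the induced characters** -/
theorem exists_inv [Finite M] (E : Mod q π) (hq1 : 1 < q) (h2 : (2 : F) = 0) (hev : Even q) {ρ : F ≃+* F} {a : ℕ}
    (hρ : ∀ x, ρ x = x ^ a) {ι : Type*} {i : ι → ℕ} (h1 : ∀ k k', ¬ (q - 1) ∣ i k + i k')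
    (h3 : ∀ k k', k ≠ k' → ¬ i k ≡ i k' [MOD q - 1])
    (h4 : ∀ k, i k * a ≡ i k [MOD q - 1] ∨ (q - 1) ∣ i k + i k * a) :
    ∃ χ : ι → M → ℂ, Function.Injective χ ∧ ∀ k, OS (fld E ρ) (χ k) ∧ χ k ≠ 1 ∧
      ∀ x : M, (∀ g : M, g⁻¹ * x * g ∉ (borel σ).map π) → χ k x = 0 := by
  classical
  have hFt : Fintype M := Fintype.ofFinite M
  have : Fact (Nat.Prime 2) := ⟨Nat.prime_two⟩
  have : CharP F 2 := CharTwo.of_one_ne_zero_of_two_eq_zero one_ne_zero h2
  obtain ⟨P₀, hP₀⟩ := E.exists_syl (r := 2) hq1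
  have hUp : IsPGroup 2 ((emb σ).range.map π) := by
    rw [← hP₀]
    exact P₀.isPGroup'
  obtain ⟨l₀, hl₀, hord, m, hm, hmq⟩ := E.exists_generator hq1
  set t₀ := π (tor σ l₀) with ht₀
  set n := orderOf t₀ with hn
  have hn0 : 0 < n := orderOf_pos t₀
  have hm0 : 0 < m := by
    rcases Nat.eq_zero_or_pos m with h | h
    · rw [h, zero_mul] at hm
      omega
    · exact h
  have hnodd : Odd n := by
    have h1 : n ∣ orderOf l₀ := orderOf_map_dvd (π.comp (tor σ)) l₀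
    rw [hord] at h1
    refine Odd.of_dvd_nat ?_ h1
    exact (Nat.Even.sub_odd hq1.le hev odd_one).mul (hev.add_one)
  -- the action of `w`
  have hw : π (wel σ) * t₀ * (π (wel σ))⁻¹ = t₀ ^ ((n - 1) * q) := by
    have h1 : π (wel σ) * t₀ * (π (wel σ))⁻¹ = π (tor σ (ci σ l₀)) := by
      rw [ht₀, ← map_inv, ← map_mul, ← map_mul, wel_inv, wel_tor]
    have h3 : ci σ l₀ = (l₀ ^ q)⁻¹ := by
      apply Units.ext
      rw [ci_val, Units.val_inv_eq_inv_val, Units.val_pow_eq_pow_val, E.pow]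
    have h4 : t₀ ^ ((n - 1) * q) * t₀ ^ q = 1 := by
      rw [← pow_add]
      have h5 : (n - 1) * q + q = n * q := by
        obtain ⟨k, hk⟩ : ∃ k, n = k + 1 := ⟨n - 1, by omega⟩
        rw [hk, Nat.add_sub_cancel]
        ring
      rw [h5, pow_mul, hn, pow_orderOf_eq_one, one_pow]
    rw [h1, h3, map_inv, map_inv, map_pow, map_pow, ← ht₀]
    exact (eq_inv_of_mul_eq_one_left h4).symm
  have hzp : ∀ t ∈ (borel σ).map π, (π (wel σ))⁻¹ * t * π (wel σ) ∈ (borel σ).map π →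
      t ∈ Subgroup.zpowers t₀ := by
    intro t ht htw
    obtain ⟨l, rfl⟩ := E.mem_two_iff ht htw
    obtain ⟨j, rfl⟩ := Subgroup.mem_zpowers_iff.1 (hl₀ l)
    exact Subgroup.mem_zpowers_iff.2 ⟨j, (map_zpow (π.comp (tor σ)) l₀ j).symm⟩
  have hgen := gen_of_two E.data (t₀ := t₀) (isOfFinOrder_of_finite _) hzp
  have hwt : ∀ t ∈ (borel σ).map π, π (wel σ) * t * (π (wel σ))⁻¹ ∈ (borel σ).map π → ∃ k : ℕ, t = t₀ ^ k := by
    intro t ht htw
    have h5 : (π (wel σ))⁻¹ * t * π (wel σ) ∈ (borel σ).map π := by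
      have h6 : (π (wel σ))⁻¹ = π (wel σ) := by rw [← map_inv, wel_inv]
      rw [h6] at htw ⊢
      exact htw
    obtain ⟨k, hk⟩ := (Submonoid.mem_powers_iff _ _).1
      (((isOfFinOrder_of_finite t₀).mem_powers_iff_mem_zpowers).2 (hzp t ht h5))
    exact ⟨k, hk.symm⟩
  have htB : t₀ ∈ (borel σ).map π := (two_mem l₀).1
  obtain ⟨ξ, f, hξ, hf, hf1, hχ⟩ := RankAut.exists_base E.data hUp (E.unip_ne hq1) htB hw hgen hn.symm hnodd
  obtain ⟨hχ1, hχ2⟩ := hχ hFt
  have hje : ∀ k k', ((m * i k : ℕ) : ZMod n) * (((n - 1) * q : ℕ) : ZMod n) ≠ ((m * i k' : ℕ) : ZMod n) :=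
    fun k k' h => h1 k k' ((cast_mul_iff hq1 hm0 hm _ _).1 h)
  have hβt : fld E ρ t₀ = t₀ ^ a := by
    rw [ht₀, fld_tor, ← map_pow, ← map_pow]
    congr 2
    apply Units.ext
    rw [Units.val_pow_eq_pow_val]
    exact hρ _
  refine ⟨fun k => indFun ((borel σ).map π) (fun t => ((f ^ (m * i k)) t : ℂ)), ?_, fun k => ⟨⟨?_, ?_, ?_⟩, ?_, ?_⟩⟩
  · intro k k' hkk
    by_contra hne
    exact hχ2 _ _ (hje k k) (fun h => h3 k k' hne ((cast_eq_iff hq1 hm0 hm _ _).1 h)) (hje k k') hkk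
  · exact (hχ1 _ (hje k k)).1
  · exact (hχ1 _ (hje k k)).2.1
  · intro x
    refine RankAut.inv_of E.data htB hw hgen hwt hξ hf hf1 (fun b => fld_mem_B_iff E ρ) (fun u hu => fld_mem_U E ρ hu) hβt
      (hχ1 _ (hje k k)).1.1 ?_ x
    rcases h4 k with h | h
    · left
      have h5 := (cast_eq_iff hq1 hm0 hm _ _).2 h
      rw [← mul_assoc, Nat.cast_mul] at h5
      exact h5
    · right
      have h5 := (cast_mul_iff hq1 hm0 hm _ _).2 h
      rw [← mul_assoc, Nat.cast_mul _ a] at h5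
      exact h5.symm
  · intro h
    have h5 := (hχ1 _ (hje k k)).2.2.1
    have h8 : indFun ((borel σ).map π) (fun t => ((f ^ (m * i k)) t : ℂ)) 1 = 1 := congrFun h 1
    rw [h8] at h5
    have h6 : ((borel σ).map π).index = 1 := by
      have h7 : (1 : ℂ) = ((((borel σ).map π).index : ℕ) : ℂ) := h5
      exact_mod_cast h7.symm
    rw [Subgroup.index_eq_one] at h6
    exact E.data.w_not_mem (by rw [h6]; exact Subgroup.mem_top _)
  · exact (hχ1 _ (hje k k)).2.2.2

/-! ### `q = 4` -/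

theorem two_eq_neg {F : Type*} [Field F] (h2 : (2 : F) = 0) : (-1 : F) = 1 := by
  linear_combination (-1 : F) * h2

section four

variable (h2 : (2 : F) = 0)

include h2

/-- the element `x₂₁(t)`-like `HG` element `(0, t)` -/
def hgt {t : F} (ht : t + σ t = 0) : HG σ := ⟨0, t, by rw [zero_mul]; exact ht⟩

omit h2 in
theorem mapH_hgt (hp : ∀ x, σ x = x ^ q) {ρ : F ≃+* F} {t : F} (ht : t + σ t = 0) (hρ : ρ t = t) :
    mapH hp ρ (hgt ht) = hgt ht := by
  ext
  · exact map_zero ρ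
  · exact hρ

/-- the matrix -/
theorem wx_val {t : F} (ht : t + σ t = 0) :
    ((wel σ * emb σ (hgt ht) : SUG σ)).1.1 = !![0, 0, 1; 0, 1, 0; 1, 0, t] := by
  have h3 : (-1 : F) = 1 := two_eq_neg h2
  rw [coe_mul_SUG]
  ext i j
  rw [Matrix.mul_apply, Fin.sum_univ_three]
  simp only [wel_val, emb_val]
  fin_cases i <;> fin_cases j <;> simp [umat, Wm, hgt, h3]

theorem wx_pow {t : F} (ht : t + σ t = 0) (ht2 : t * t = t + 1) : (wel σ * emb σ (hgt ht)) ^ 5 = 1 := by
  have h4 : t ^ 2 = t + 1 := by rw [sq]; exact ht2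
  apply sug_ext
  intro i j
  have e : ((wel σ * emb σ (hgt ht)) ^ 5).1.1 = (!![0, 0, 1; 0, 1, 0; 1, 0, t] : Matrix (Fin 3) (Fin 3) F) ^ 5 := by
    rw [← wx_val h2 ht]
    rfl
  rw [e]
  have e2 : (!![0, 0, 1; 0, 1, 0; 1, 0, t] : Matrix (Fin 3) (Fin 3) F) * !![0, 0, 1; 0, 1, 0; 1, 0, t] =
      !![1, 0, t; 0, 1, 0; t, 0, t] := by
    ext i j
    rw [Matrix.mul_apply, Fin.sum_univ_three]
    fin_cases i <;> fin_cases j <;> simp
    linear_combination ht2 + h2
  have e4 : (!![1, 0, t; 0, 1, 0; t, 0, t] : Matrix (Fin 3) (Fin 3) F) * !![1, 0, t; 0, 1, 0; t, 0, t] =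
      !![t, 0, 1; 0, 1, 0; 1, 0, 0] := by
    ext i j
    rw [Matrix.mul_apply, Fin.sum_univ_three]
    fin_cases i <;> fin_cases j <;> simp
    · linear_combination ht2 + h2
    · linear_combination ht2 + t * h2
    · linear_combination ht2 + t * h2
    · linear_combination 2 * ht2 + (t + 1) * h2
  have e5 : (!![t, 0, 1; 0, 1, 0; 1, 0, 0] : Matrix (Fin 3) (Fin 3) F) * !![0, 0, 1; 0, 1, 0; 1, 0, t] = 1 := by
    ext i j
    rw [Matrix.mul_apply, Fin.sum_univ_three]
    fin_cases i <;> fin_cases j <;> simp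
    linear_combination t * h2
  have e6 : (!![0, 0, 1; 0, 1, 0; 1, 0, t] : Matrix (Fin 3) (Fin 3) F) ^ 5 = 1 := by
    rw [show (5 : ℕ) = 2 * 2 + 1 from rfl, pow_succ, pow_mul, sq, sq, e2, e4, e5]
  rw [e6]
  rfl

/-- the trace of an element of the Borel subgroup is not `1 + t` -/
theorem trace_ne (hp : ∀ x, σ x = x ^ q) (hq : q = 4) (hF : Fintype.card F = 4 ^ 2) {t : F} (ht2 : t * t = t + 1)
    {g : SUG σ} (hg : g ∈ borel σ) : Matrix.trace g.1.1 ≠ 1 + t := by
  subst hq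
  intro htr
  rw [Matrix.trace_fin_three] at htr
  rw [mem_borel] at hg
  obtain ⟨g1, g2⟩ := hg
  have e02 := entry_of_mem_SUG g.2 0 2
  have e01 := entry_of_mem_SUG g.2 0 1
  have hdet : g.1.1.det = 1 := g.1.2
  rw [Matrix.det_fin_three, g1, g2] at hdet
  rw [g1, g2, hp] at e02
  rw [g1, g2] at e01
  simp only [zero_mul, mul_zero, sub_zero, add_zero] at e02 e01 hdet
  rw [show Gm F 0 2 = 1 from rfl] at e02
  rw [show Gm F 0 1 = 0 from rfl] at e01
  generalize g.1.1 0 0 = a at *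
  generalize g.1.1 1 1 = b at *
  generalize g.1.1 2 2 = c at *
  have ha0 : a ≠ 0 := by
    rintro rfl
    rw [zero_mul] at e02
    exact zero_ne_one e02
  have h21 : g.1.1 2 1 = 0 := (map_eq_zero σ).1 ((mul_eq_zero.1 e01).resolve_left ha0)
  rw [h21] at hdet
  have hc0 : c ≠ 0 := by
    rintro rfl
    norm_num at e02
  have hc16 : c ^ 16 = c := by
    have h := FiniteField.pow_card c
    rwa [hF] at h
  obtain ⟨d, hcd⟩ : ∃ d, c * d = 1 := ⟨c⁻¹, mul_inv_cancel₀ hc0⟩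
  have hc15 : c ^ 15 = 1 := by
    have h : c * c ^ 15 = c * 1 := by rw [← pow_succ', hc16, mul_one]
    exact mul_left_cancel₀ hc0 h
  have hc12 : c ^ 12 = d ^ 3 := by
    have h : c ^ 12 = c ^ 12 * (c * d) ^ 3 := by rw [hcd, one_pow, mul_one]
    rw [h, mul_pow, ← mul_assoc, ← pow_add, hc15, one_mul]
  have hd16 : d ^ 16 = d := by
    have h : d ^ 16 = d ^ 16 * c ^ 15 := by rw [hc15, mul_one]
    have h' : d ^ 16 * c ^ 15 = (c * d) ^ 15 * d := by ring
    rw [h, h', hcd, one_pow, one_mul]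
  have ha : a = d ^ 4 := by
    have h : a * (c * d) ^ 4 = a := by rw [hcd, one_pow, mul_one]
    rw [← h, mul_pow, ← mul_assoc, e02, one_mul]
  have hb : b = c ^ 3 := by
    have h : a * c ^ 4 * b = c ^ 3 * (a * (b * c)) := by ring
    rw [e02, one_mul] at h
    rw [h]
    linear_combination c ^ 3 * hdet
  have hs : c + c ^ 3 + d ^ 4 = 1 + t := by
    rw [← htr, ha, hb]
    ring
  have ht4 : (1 + t) ^ 4 = 1 + t := by grind
  have hs4 : c ^ 4 + d ^ 3 + d = c + c ^ 3 + d ^ 4 := by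
    have h : (c + c ^ 3 + d ^ 4) ^ 4 = c + c ^ 3 + d ^ 4 := by rw [hs, ht4]
    have h' : (c + c ^ 3 + d ^ 4) ^ 4 = c ^ 4 + c ^ 12 + d ^ 16 := by
      have h5 : ∀ x y : F, (x + y) ^ 4 = x ^ 4 + y ^ 4 := by
        intro x y
        linear_combination (2 * x ^ 3 * y + 3 * x ^ 2 * y ^ 2 + 2 * x * y ^ 3) * h2
      rw [h5, h5, ← pow_mul, ← pow_mul]
    rw [h', hc12, hd16] at h
    exact h
  have hu : (c + d) ^ 3 * (1 + (c + d)) = 0 := by grind
  rcases mul_eq_zero.1 hu with h | h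
  · have h6 : c + d = 0 := by
      rw [pow_eq_zero_iff (by norm_num)] at h
      exact h
    have h7 : c = 1 := by
      have h8 : (c + 1) ^ 2 = 0 := by
        linear_combination c * h6 + c * h2 - hcd
      rw [pow_eq_zero_iff (by norm_num)] at h8
      linear_combination h8 - h2
    have h9 : d = 1 := by rw [h7, one_mul] at hcd; exact hcd
    rw [h7, h9] at hs
    have h10 : t = 0 := by linear_combination -hs + h2
    rw [h10] at ht2
    norm_num at ht2
  · have h6 : c ^ 2 + c + 1 = 0 := by linear_combination c * h - hcd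
    have h7 : 1 + t = 0 := by
      rw [← hs]
      grind
    have h8 : t = 1 := by linear_combination h7 - h2
    rw [h8] at ht2
    have h9 : (1 : F) = 0 := by linear_combination ht2 + h2
    exact one_ne_zero h9

end four

theorem trace_conj (g h : SUG σ) : Matrix.trace (g⁻¹ * h * g).1.1 = Matrix.trace h.1.1 := by
  have e : (g⁻¹ * h * g).1.1 = g⁻¹.1.1 * (h * g).1.1 := by rw [mul_assoc]; rfl
  rw [e, Matrix.trace_mul_comm]
  have e2 : (h * g).1.1 * g⁻¹.1.1 = (h * g * g⁻¹).1.1 := rfl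
  rw [e2, mul_inv_cancel_right]

/-- **`q = 4`** -/
theorem gInv3_four [Finite M] {π : SUG σ →* M} (E : Mod 4 π) (h2 : (2 : F) = 0) (hT : H601.OddDeg.TwoC M)
    (hev : Even (Nat.card M)) {ρ : F ≃+* F} (hρ : ∀ x, ρ x = x ^ 4) : GInv3 (fld E ρ) := by
  classical
  have hFt : Fintype M := Fintype.ofFinite M
  have hF : Fintype.card F = 4 ^ 2 := E.card
  -- an element of order three
  obtain ⟨t, ht2⟩ : ∃ t : F, t * t = t + 1 := by
    have h3 : 3 ∣ Nat.card Fˣ := by
      rw [Nat.card_units, Nat.card_eq_fintype_card, hF]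
      norm_num
    obtain ⟨u, hu⟩ := exists_prime_orderOf_dvd_card' (hp := ⟨Nat.prime_three⟩) 3 h3
    have h4 : u ^ 3 = 1 := by rw [← hu, pow_orderOf_eq_one]
    have h5 : u ≠ 1 := by
      rintro rfl
      rw [orderOf_one] at hu
      norm_num at hu
    have h6 : (u : F) ≠ 1 := fun h => h5 (Units.ext h)
    have h7 : (u : F) ^ 3 = 1 := by rw [← Units.val_pow_eq_pow_val, h4, Units.val_one]
    refine ⟨u, ?_⟩
    have h8 : ((u : F) - 1) * ((u : F) * u + u + 1) = 0 := by linear_combination h7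
    have h9 := (mul_eq_zero.1 h8).resolve_left (sub_ne_zero.2 h6)
    linear_combination h9 - ((u : F) + 1) * h2
  have ht4 : t ^ 4 = t := by grind
  have hts : t + σ t = 0 := by
    rw [E.pow, ht4]
    linear_combination t * h2
  have hρt : ρ t = t := by rw [hρ, ht4]
  have hρ2 : ρ ^ 2 = 1 := by
    ext x
    rw [sq, RingAut.mul_apply, hρ, hρ, ← pow_mul]
    have h := FiniteField.pow_card x
    rwa [hF] at h
  obtain ⟨χ, -, hχ⟩ := exists_inv E (by norm_num) h2 (by decide) hρ (ι := Unit) (i := fun _ => 1)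
    (by intro _ _; decide) (by intro k k' h; exact absurd (Subsingleton.elim k k') h) (by
      intro _
      left
      decide)
  set x := π (wel σ * emb σ (hgt hts)) with hx
  have hx5 : x ^ 5 = 1 := by rw [hx, ← map_pow, wx_pow h2 hts ht2, map_one]
  have hxB : ∀ g : M, g⁻¹ * x * g ∉ (borel σ).map π := by
    intro g hg
    obtain ⟨g, rfl⟩ := E.surj g
    rw [hx, ← map_inv, ← map_mul, ← map_mul] at hg
    have h3 := E.mem_of_map hg
    refine trace_ne h2 E.pow rfl hF ht2 h3 ?_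
    rw [trace_conj, wx_val h2, Matrix.trace_fin_three]
    simp
  have hx1 : x ≠ 1 := by
    intro h
    refine hxB 1 ?_
    rw [h]
    simp
  have : Fact (Nat.Prime 5) := ⟨Nat.prime_five⟩
  have hxo : orderOf x = 5 := orderOf_eq_prime hx5 hx1
  have hO := (hχ ()).1
  refine inv3_of_elt hev (hO.sf.good hO.odd hT) (fld E ρ) ⟨1, 1, fun y => ?_⟩ hO.fix (x := x) (g := 1) hx1
    (by rw [hxo]; decide) ?_ ?_
  · rw [pow_one, ← map_pow, hρ2, map_one]
    simp
  · rw [one_mul, inv_one, mul_one, hx, map_mul, map_mul, fld_wel, fld_emb, mapH_hgt E.pow hts hρt]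
  · intro y hy hy1
    refine (hχ ()).2.2 y fun g hg => ?_
    have h3 : orderOf y = 5 := by
      refine orderOf_eq_prime ?_ hy1
      obtain ⟨k, rfl⟩ := hy
      show (x ^ k) ^ 5 = 1
      rw [← zpow_natCast, ← _root_.zpow_mul, mul_comm, _root_.zpow_mul, zpow_natCast, hx5, _root_.one_zpow]
    have h4 : Subgroup.zpowers y = Subgroup.zpowers x := by
      refine Subgroup.eq_of_le_of_card_ge (Subgroup.zpowers_le.2 hy) ?_
      rw [Nat.card_zpowers, Nat.card_zpowers, h3, hxo]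
    have h5 : x ∈ Subgroup.zpowers y := by rw [h4]; exact Subgroup.mem_zpowers x
    obtain ⟨k, hk⟩ := h5
    apply hxB g
    have h6 : g⁻¹ * x * g = (g⁻¹ * y * g) ^ k := by
      have h7 := conj_zpow (a := g⁻¹) (b := y) (i := k)
      rw [inv_inv] at h7
      rw [h7, ← hk]
    rw [h6]
    exact Subgroup.zpow_mem _ hg k

/-! ### the shape of a field automorphism -/

theorem shape {F : Type*} [Field F] [Fintype F] [CharP F 2] {N : ℕ} (hN : 1 ≤ N) (hF : Fintype.card F = 2 ^ N)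
    {ρ : F ≃+* F} (hρ1 : ρ ≠ 1) (hρ : ∃ k : ℕ, ρ ^ 2 ^ k = 1) :
    ∃ c d s : ℕ, 1 ≤ c ∧ d * 2 ^ c = N ∧ Odd s ∧ orderOf ρ = 2 ^ c ∧ ∀ x, ρ x = x ^ ((2 ^ d) ^ s) := by
  have : Fact (Nat.Prime 2) := ⟨Nat.prime_two⟩
  obtain ⟨k, hk⟩ := hρ
  obtain ⟨c, -, hc⟩ := (Nat.dvd_prime_pow Nat.prime_two).1 (orderOf_dvd_of_pow_eq_one hk)
  obtain ⟨n, rfl⟩ := Cfsg.Agent.StdRank2.OutSpCyc.exists_frob_pow ρ
  have hfin : Finite (F ≃+* F) :=
    Nat.finite_of_card_ne_zero (by rw [Cfsg.Agent.Lib.FieldAutCard.card_ringAut hN hF]; omega)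
  have hord : orderOf (Cfsg.Agent.StdRank2.OutSpGraph.frob F) = N := by
    rw [orderOf_eq_card_of_forall_mem_zpowers (fun τ => ?_), Cfsg.Agent.Lib.FieldAutCard.card_ringAut hN hF]
    obtain ⟨i, rfl⟩ := Cfsg.Agent.StdRank2.OutSpCyc.exists_frob_pow τ
    exact ⟨i, zpow_natCast _ _⟩
  have hc1 : 1 ≤ c := by
    by_contra h
    have : c = 0 := by omega
    subst this
    rw [pow_zero] at hc
    exact hρ1 (orderOf_eq_one_iff.1 hc)
  have hc' := hc
  rw [orderOf_pow, hord] at hc'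
  set d := Nat.gcd N n with hd
  have hd0 : 0 < d := Nat.gcd_pos_of_pos_left _ hN
  have hdN : d ∣ N := Nat.gcd_dvd_left _ _
  obtain ⟨s, hs⟩ : d ∣ n := Nat.gcd_dvd_right _ _
  have hcop : Nat.Coprime (N / d) (n / d) := Nat.coprime_div_gcd_div_gcd hd0
  rw [hc', hs, Nat.mul_div_cancel_left _ hd0] at hcop
  refine ⟨c, d, s, hc1, ?_, ?_, hc, ?_⟩
  · rw [← hc', Nat.mul_div_cancel' hdN]
  · have h1 : Nat.Coprime 2 s := Nat.Coprime.coprime_dvd_left (dvd_pow_self 2 (by omega)) hcop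
    exact Nat.coprime_two_left.1 h1
  · intro x
    have h1 : ∀ (n : ℕ) (x : F), ((Cfsg.Agent.StdRank2.OutSpGraph.frob F) ^ n) x = x ^ (2 ^ n) := by
      intro n
      induction n with
      | zero => intro x; simp
      | succ n ih =>
        intro x
        rw [pow_succ, RingAut.mul_apply, ih, Cfsg.Agent.StdRank2.OutSpGraph.frob_apply, ← sq, ← pow_mul, pow_succ,
          mul_comm]
    rw [h1, hs, pow_mul]

/-- **field automorphisms** -/
theorem gInv3_fld [Finite M] (E : Mod q π) (h2 : (2 : F) = 0) (hT : H601.OddDeg.TwoC M) (hevM : Even (Nat.card M))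
    {ρ : F ≃+* F} {c d s : ℕ} (hd : 2 ≤ d) (hs : Odd s) (hq : q = (2 ^ d) ^ 2 ^ c)
    (hρ : ∀ x, ρ x = x ^ ((2 ^ d) ^ s)) : GInv3 (fld E ρ) := by
  set r := 2 ^ d with hr
  have hr4 : 4 ≤ r := by
    calc 4 = 2 ^ 2 := rfl
      _ ≤ 2 ^ d := Nat.pow_le_pow_right (by norm_num) hd
  have hrev : Even r := (Nat.even_pow.2 ⟨even_two, by omega⟩)
  have fin : ∀ (i : Fin 2 → ℕ), (∀ k k', ¬ (q - 1) ∣ i k + i k') → (∀ k k', k ≠ k' → ¬ i k ≡ i k' [MOD q - 1]) →
      (∀ k, i k * r ^ s ≡ i k [MOD q - 1] ∨ (q - 1) ∣ i k + i k * r ^ s) → GInv3 (fld E ρ) := by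
    intro i h1 h3 h4
    have hq1 : 1 < q := by
      rw [hq]
      exact Nat.one_lt_pow (by positivity) (by omega)
    have hev : Even q := by
      rw [hq]
      exact Nat.even_pow.2 ⟨hrev, by positivity⟩
    obtain ⟨χ, hinj, hχ⟩ := exists_inv E hq1 h2 hev hρ h1 h3 h4
    exact GInv3.of_os hT (one_os _) (hχ 0).1 (hχ 1).1 (hχ 0).2.1.symm (hχ 1).2.1.symm
      (fun h => absurd (hinj h) (by decide))
  rcases Nat.eq_zero_or_pos c with rfl | hc
  · rw [pow_zero, pow_one] at hq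
    subst hq
    rcases Nat.lt_or_ge d 3 with h3 | h3
    · have hd2 : d = 2 := by omega
      subst hd2
      have hr' : r = 4 := hr
      clear_value r
      subst hr'
      refine gInv3_four E h2 hT hevM fun x => ?_
      obtain ⟨k, rfl⟩ := hs
      rw [hρ, pow_add, pow_one, pow_mul, pow_mul]
      have h5 : ∀ (k : ℕ) (x : F), x ^ ((4 ^ 2) ^ k) = x := by
        intro k
        induction k with
        | zero => intro x; simp
        | succ k ih =>
          intro x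
          rw [pow_succ, pow_mul, ih]
          have h := FiniteField.pow_card x
          rwa [E.card] at h
      rw [h5]
    · have hr8 : 8 ≤ r := by
        calc 8 = 2 ^ 3 := rfl
          _ ≤ 2 ^ d := Nat.pow_le_pow_right (by norm_num) h3
      have hodd : Odd (r - 1) := Nat.Even.sub_odd (by omega) hrev odd_one
      refine fin ![1, 2] ?_ ?_ ?_
      · intro k k' h
        have h5 := Nat.le_of_dvd (by fin_cases k <;> fin_cases k' <;> simp) h
        fin_cases k <;> fin_cases k' <;> simp at h5 <;> omega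
      · intro k k' hk h
        have h5 := Nat.ModEq.eq_of_lt_of_lt h (by fin_cases k <;> simp <;> omega) (by fin_cases k' <;> simp <;> omega)
        revert h5 hk
        fin_cases k <;> fin_cases k' <;> simp
      · intro k
        left
        have h5 : r ≡ 1 [MOD r - 1] := (Nat.modEq_iff_dvd' (by omega)).2 dvd_rfl |>.symm
        have h6 := (h5.pow s).mul_left (![1, 2] k)
        rwa [one_pow, mul_one] at h6
  · -- `r ^ 2 - 1 ∣ q - 1`
    obtain ⟨K, hK⟩ : (r - 1) * (r + 1) ∣ q - 1 := by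
      obtain ⟨c', rfl⟩ : ∃ c', c = c' + 1 := ⟨c - 1, by omega⟩
      have h5 : q = (r ^ 2) ^ 2 ^ c' := by
        rw [hq, pow_succ 2 c', mul_comm (2 ^ c') 2]
        exact pow_mul r 2 _
      have h6 : (r - 1) * (r + 1) = r ^ 2 - 1 := by
        obtain ⟨k, hk⟩ : ∃ k, r = k + 1 := ⟨r - 1, by omega⟩
        rw [hk]
        simp only [Nat.add_sub_cancel]
        have : (k + 1) ^ 2 = k * (k + 1 + 1) + 1 := by ring
        rw [this, Nat.add_sub_cancel]
      rw [h5, h6]
      simpa using Nat.sub_dvd_pow_sub_pow (r ^ 2) 1 (2 ^ c')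
    have hK0 : 0 < K := by
      rcases Nat.eq_zero_or_pos K with h | h
      · rw [h, mul_zero] at hK
        have hq1 : 1 < q := by
          rw [hq]
          exact Nat.one_lt_pow (by positivity) (by omega)
        omega
      · exact h
    refine fin ![(r + 1) * K, (r - 1) * K] ?_ ?_ ?_
    · have hkey : ∀ m : ℕ, 0 < m → m < (r - 1) * (r + 1) → ¬ (q - 1) ∣ m * K := by
        intro m hm0 hm h
        rw [hK, Nat.mul_dvd_mul_iff_right hK0] at h
        exact absurd (Nat.le_of_dvd hm0 h) (not_le.2 hm)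
      obtain ⟨k, hk⟩ : ∃ k, r = k + 1 := ⟨r - 1, by omega⟩
      have h7 : (r + 1) + (r + 1) < (r - 1) * (r + 1) := by
        rw [hk, Nat.add_sub_cancel]
        have : 3 ≤ k := by omega
        nlinarith
      intro i i' h
      fin_cases i <;> fin_cases i'
      · exact hkey ((r + 1) + (r + 1)) (by omega) h7 (by rw [add_mul]; exact h)
      · exact hkey ((r + 1) + (r - 1)) (by omega) (by omega) (by rw [add_mul]; exact h)
      · exact hkey ((r - 1) + (r + 1)) (by omega) (by omega) (by rw [add_mul]; exact h)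
      · exact hkey ((r - 1) + (r - 1)) (by omega) (by omega) (by rw [add_mul]; exact h)
    · have h8 : (r + 1) * K < q - 1 := by
        rw [hK]
        refine Nat.mul_lt_mul_of_pos_right ?_ hK0
        exact lt_mul_of_one_lt_left (by omega) (by omega)
      have h9 : (r - 1) * K < (r + 1) * K := Nat.mul_lt_mul_of_pos_right (by omega) hK0
      intro i i' hi h
      have h5 := Nat.ModEq.eq_of_lt_of_lt h (by fin_cases i <;> simp <;> omega) (by fin_cases i' <;> simp <;> omega)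
      revert h5 hi
      fin_cases i <;> fin_cases i' <;> simp <;> omega
    · intro i
      fin_cases i
      · left
        have h5 : r ≡ 1 [MOD r - 1] := (Nat.modEq_iff_dvd' (by omega)).2 dvd_rfl |>.symm
        have h6 : r ^ s ≡ 1 [MOD r - 1] := by simpa using h5.pow s
        have h7 := h6.mul_left' ((r + 1) * K)
        rw [mul_one, show (r + 1) * K * (r - 1) = q - 1 by rw [hK]; ring] at h7
        exact h7
      · right
        show q - 1 ∣ (r - 1) * K + (r - 1) * K * r ^ s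
        have h5 : r + 1 ∣ r ^ s + 1 ^ s := hs.nat_add_dvd_pow_add_pow r 1
        rw [one_pow] at h5
        rw [hK, show (r - 1) * K + (r - 1) * K * r ^ s = (r - 1) * K * (r ^ s + 1) by ring,
          show (r - 1) * (r + 1) * K = (r - 1) * K * (r + 1) by ring]
        exact Nat.mul_dvd_mul_left _ h5

/-! ### the final statement -/

/-- powers of a product with an inner automorphism -/
theorem isInn_pow_iff {x τ β : MulAut M} {g : M} (e : x * τ * x⁻¹ = MulAut.conj g * β) (k : ℕ) :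
    IsInn (τ ^ k) ↔ IsInn (β ^ k) := by
  obtain ⟨s, hs⟩ := exists_pow_conj g β k
  rw [← e] at hs
  have h1 : x * τ ^ k * x⁻¹ = MulAut.conj s * β ^ k := by rw [← hs, conj_pow]
  exact Red.isInn_iff_red h1

/-- **QE6**, the `GInv3` half: `PSU₃(q)`, `q = 2 ^ f ≥ 4` -/
theorem gInv3_psu3 {F : Type} [Field F] [Fintype F] [CharP F 2] {q f : ℕ} (hF : Fintype.card F = q ^ 2)
    (hqf : q = 2 ^ f) (hq : 4 ≤ q) {τ : MulAut (PSU 3 F q)} (hτ : TwoPow τ) (ho : ¬ IsInn τ)
    (hs : ¬ ((∃ b : ℕ, f = 2 ^ b) ∧ ∀ j : ℕ, IsInn (τ ^ j) → 2 * f ∣ j)) [IsSimpleGroup (PSU 3 F q)] : GInv3 τ := by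
  have hT : H601.OddDeg.TwoC (PSU 3 F q) := H742.TwoC.twoC_charTwo (by
    unfold IsLieTypeChar
    exact Or.inr (Or.inr (Or.inl ⟨F, inferInstance, inferInstance, inferInstance, 3, q, hF, le_rfl,
      by omega, ⟨MulEquiv.refl _⟩⟩)))
  obtain ⟨σ, hσ, π, E⟩ := exists_mod F hF (by omega)
  have hfin : Finite (PSU 3 F q) := Finite.of_surjective π E.surj
  obtain ⟨x, g, ρ, e⟩ := exists_red E hF (by omega) hτ
  rw [Red.gInv3_iff_red e]
  have hpi := fun k => isInn_pow_iff e k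
  have hρk : ∀ k, IsInn (τ ^ k) ↔ ρ ^ k = 1 := by
    intro k
    rw [hpi, ← map_pow]
    constructor
    · exact eq_one_of_isInn E (by omega)
    · intro h
      rw [h, map_one]
      exact ⟨1, fun y => by simp⟩
  have hρ1 : ρ ≠ 1 := by
    intro h
    apply ho
    have h1 := (hρk 1).2 (by rw [h, one_pow])
    rwa [pow_one] at h1
  have hf1 : 1 ≤ f := by
    by_contra h
    have : f = 0 := by omega
    rw [hqf, this] at hq
    norm_num at hq
  obtain ⟨c, d, s, hc, hdc, hso, hord, hρ⟩ := shape (N := 2 * f) (by omega)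
    (by rw [hF, hqf, ← pow_mul, mul_comm]) hρ1 (by
      obtain ⟨k, s, hk⟩ := hτ
      exact ⟨k, (hρk _).1 ⟨s, hk⟩⟩)
  have hcf : d * 2 ^ (c - 1) = f := by
    obtain ⟨c', rfl⟩ : ∃ c', c = c' + 1 := ⟨c - 1, by omega⟩
    rw [Nat.add_sub_cancel]
    rw [pow_succ, ← mul_assoc] at hdc
    omega
  have hd2 : 2 ≤ d := by
    by_contra h
    have hd0 : d ≠ 0 := by
      rintro rfl
      rw [zero_mul] at hcf
      omega
    have hd1 : d = 1 := by omega
    apply hs
    refine ⟨⟨c - 1, by rw [← hcf, hd1, one_mul]⟩, fun j hj => ?_⟩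
    have h1 := orderOf_dvd_of_pow_eq_one ((hρk j).1 hj)
    rwa [hord, show 2 ^ c = 2 * f by rw [← hdc, hd1, one_mul]] at h1
  refine gInv3_fld E (CharP.cast_eq_zero F 2) hT ?_ hd2 hso (c := c - 1) (by rw [hqf, ← hcf, pow_mul]) hρ
  have h1 : Even q := by
    rw [hqf]
    exact Nat.even_pow.2 ⟨even_two, by omega⟩
  have : Fact (Nat.Prime 2) := ⟨Nat.prime_two⟩
  obtain ⟨P₀, hP₀⟩ := E.exists_syl (r := 2) (by omega)
  have h2 : (emb σ).range.map π ≠ ⊥ := E.unip_ne (by omega)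
  have hUp : IsPGroup 2 ((emb σ).range.map π) := by
    rw [← hP₀]
    exact P₀.isPGroup'
  obtain ⟨k, hk⟩ := IsPGroup.iff_card.1 hUp
  have hk0 : k ≠ 0 := by
    rintro rfl
    rw [pow_zero] at hk
    exact h2 (Subgroup.eq_bot_of_card_eq _ hk)
  have h3 : Even (Nat.card ((emb σ).range.map π)) := by
    rw [hk]
    exact Nat.even_pow.2 ⟨even_two, hk0⟩
  exact even_iff_two_dvd.2 ((even_iff_two_dvd.1 h3).trans (Subgroup.card_subgroup_dvd_card _))

end Cfsg.Agent.H805.K547.PSU3
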